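import Mathlib
import Cfsg.Agent.Lib.Helper8.PG.Defs
import Cfsg.Agent.Lib.Helper14.Forms

set_option autoImplicit false

/-!
# PG (S2474), package (ONE): the line `x²` with the identity
-/

universe u

namespace Cfsg.Agent.Lib.Helper52.PG

open Matrix Cfsg.Agent.Lib.Helper8.PG

theorem pkgOne : PkgOne.{u} := by
  intro F _ h2
  refine ⟨Fin 1, inferInstance, inferInstance, QuadraticMap.proj (0 : Fin 1) (0 : Fin 1), 1,
    by simp, ?_, ?_, ?_⟩
  · apply Cfsg.Agent.Lib.Helper14.nondegenerate_of_coords
    intro k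
    refine ⟨Pi.single 0 1, 2, h2, fun x => ?_⟩
    have hk : k = 0 := Subsingleton.elim _ _
    subst hk
    simp only [QuadraticMap.polar, QuadraticMap.proj_apply, Pi.add_apply, Pi.single_eq_same]
    ring
  · intro v
    rw [Matrix.one_mulVec]
  · intro j
    simp

end Cfsg.Agent.Lib.Helper52.PG
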