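import Mathlib
import Cfsg.Agent.Lib.Helper8.PG.Defs
import Cfsg.Agent.Lib.Helper14.Forms

set_option autoImplicit false

/-!
# PG (S2474), package (ROT): the plane `x² + y²` with the rotation of order `4`
-/

universe u

namespace Cfsg.Agent.Lib.Helper52.PG

open Matrix Cfsg.Agent.Lib.Helper8.PG

theorem rot_sq {F : Type u} [Field F] :
    (!![0, -1; 1, 0] : Matrix (Fin 2) (Fin 2) F) ^ 2 = -1 := by
  rw [pow_two]
  ext i j
  fin_cases i <;> fin_cases j <;> simp [Matrix.mul_apply, Fin.sum_univ_two]

theorem rot_pow_four {F : Type u} [Field F] :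
    (!![0, -1; 1, 0] : Matrix (Fin 2) (Fin 2) F) ^ 4 = 1 := by
  rw [show 4 = 2 * 2 by norm_num, pow_mul, rot_sq]
  simp

theorem pkgRot : PkgRot.{u} := by
  intro F _ h2
  refine ⟨Fin 2, inferInstance, inferInstance,
    QuadraticMap.proj (0 : Fin 2) (0 : Fin 2) + QuadraticMap.proj (1 : Fin 2) (1 : Fin 2),
    !![0, -1; 1, 0], by simp, ?_, ?_, ?_⟩
  · apply Cfsg.Agent.Lib.Helper14.nondegenerate_of_coords
    intro k
    fin_cases k
    · refine ⟨Pi.single 0 1, 2, h2, fun x => ?_⟩
      simp [QuadraticMap.polar, QuadraticMap.proj_apply]
      ring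
    · refine ⟨Pi.single 1 1, 2, h2, fun x => ?_⟩
      simp [QuadraticMap.polar, QuadraticMap.proj_apply]
      ring
  · intro v
    simp [QuadraticMap.proj_apply, dotProduct, Fin.sum_univ_two]
    ring
  · intro j
    have h4 := rot_pow_four (F := F)
    have h2' := rot_sq (F := F)
    have hmod : (!![0, -1; 1, 0] : Matrix (Fin 2) (Fin 2) F) ^ j =
        (!![0, -1; 1, 0] : Matrix (Fin 2) (Fin 2) F) ^ (j % 4) := by
      conv_lhs => rw [← Nat.div_add_mod j 4, pow_add, pow_mul, h4, one_pow, one_mul]
    rw [hmod]
    have hlt : j % 4 < 4 := Nat.mod_lt _ (by norm_num)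
    have h1 : (1 : F) ≠ -1 := by
      intro h
      apply h2
      have : (2 : F) = 1 + 1 := by norm_num
      rw [this]
      nth_rewrite 1 [h]
      ring
    rcases Nat.lt_succ_iff_lt_or_eq.mp hlt with h | h
    · rcases Nat.lt_succ_iff_lt_or_eq.mp h with h | h
      · rcases Nat.lt_succ_iff_lt_or_eq.mp h with h | h
        · have h0 : j % 4 = 0 := by omega
          rw [h0, pow_zero]
          constructor
          · intro _
            exact Nat.dvd_of_mod_eq_zero h0
          · intro _
            rfl
        · rw [h, pow_one]
          constructor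
          · intro hM
            exfalso
            have := congrFun (congrFun hM 0) 0
            simp at this
          · intro hd
            omega
      · rw [h, h2']
        constructor
        · intro hM
          exfalso
          have := congrFun (congrFun hM 0) 0
          simp at this
          exact h1 this.symm
        · intro hd
          omega
    · rw [h, show 3 = 2 + 1 by norm_num, pow_succ, h2']
      constructor
      · intro hM
        exfalso
        have := congrFun (congrFun hM 0) 0
        simp at this
      · intro hd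
        omega

end Cfsg.Agent.Lib.Helper52.PG
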