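import Mathlib
import Cfsg.Agent.Lib.Helper8.PG.Defs

set_option autoImplicit false
set_option linter.unusedSectionVars false

/-!
# PG (S2474), package (SUM): orthogonal sum of two blocks
-/

universe u

namespace Cfsg.Agent.Lib.Helper52.PG

open Matrix Cfsg.Agent.Lib.Helper8.PG

section

variable {F : Type u} [Field F] {κ₁ κ₂ : Type} [Fintype κ₁] [DecidableEq κ₁] [Fintype κ₂]
  [DecidableEq κ₂]

/-- the orthogonal sum of two quadratic forms -/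
noncomputable def sumForm (Q₁ : QuadraticForm F (κ₁ → F)) (Q₂ : QuadraticForm F (κ₂ → F)) :
    QuadraticForm F (κ₁ ⊕ κ₂ → F) :=
  Q₁.comp (LinearMap.funLeft F F Sum.inl) + Q₂.comp (LinearMap.funLeft F F Sum.inr)

theorem sumForm_apply (Q₁ : QuadraticForm F (κ₁ → F)) (Q₂ : QuadraticForm F (κ₂ → F))
    (v : κ₁ ⊕ κ₂ → F) : sumForm Q₁ Q₂ v = Q₁ (v ∘ Sum.inl) + Q₂ (v ∘ Sum.inr) := rfl

theorem sumForm_polar (Q₁ : QuadraticForm F (κ₁ → F)) (Q₂ : QuadraticForm F (κ₂ → F))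
    (x y : κ₁ ⊕ κ₂ → F) :
    QuadraticMap.polar (⇑(sumForm Q₁ Q₂)) x y =
      QuadraticMap.polar ⇑Q₁ (x ∘ Sum.inl) (y ∘ Sum.inl) +
        QuadraticMap.polar ⇑Q₂ (x ∘ Sum.inr) (y ∘ Sum.inr) := by
  simp only [QuadraticMap.polar, sumForm_apply]
  have h3 : (x + y) ∘ Sum.inl = x ∘ Sum.inl + y ∘ (Sum.inl : κ₁ → κ₁ ⊕ κ₂) := rfl
  have h4 : (x + y) ∘ Sum.inr = x ∘ Sum.inr + y ∘ (Sum.inr : κ₂ → κ₁ ⊕ κ₂) := rfl
  rw [h3, h4]
  ring

theorem fromBlocks_mulVec_inl (M₁ : Matrix κ₁ κ₁ F) (M₂ : Matrix κ₂ κ₂ F) (v : κ₁ ⊕ κ₂ → F) :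
    (Matrix.fromBlocks M₁ 0 0 M₂ *ᵥ v) ∘ Sum.inl = M₁ *ᵥ (v ∘ Sum.inl) := by
  funext i
  simp [Matrix.mulVec, dotProduct, Fintype.sum_sum_type]

theorem fromBlocks_mulVec_inr (M₁ : Matrix κ₁ κ₁ F) (M₂ : Matrix κ₂ κ₂ F) (v : κ₁ ⊕ κ₂ → F) :
    (Matrix.fromBlocks M₁ 0 0 M₂ *ᵥ v) ∘ Sum.inr = M₂ *ᵥ (v ∘ Sum.inr) := by
  funext i
  simp [Matrix.mulVec, dotProduct, Fintype.sum_sum_type]

theorem fromBlocks_diag_pow (M₁ : Matrix κ₁ κ₁ F) (M₂ : Matrix κ₂ κ₂ F) (j : ℕ) :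
    (Matrix.fromBlocks M₁ 0 0 M₂) ^ j = Matrix.fromBlocks (M₁ ^ j) 0 0 (M₂ ^ j) := by
  induction j with
  | zero => simp [Matrix.fromBlocks_one]
  | succ j ih =>
    rw [pow_succ, ih, Matrix.fromBlocks_multiply]
    simp [pow_succ]

theorem fromBlocks_diag_eq_one (A : Matrix κ₁ κ₁ F) (D : Matrix κ₂ κ₂ F) :
    Matrix.fromBlocks A 0 0 D = 1 ↔ A = 1 ∧ D = 1 := by
  rw [← Matrix.fromBlocks_one, Matrix.fromBlocks_inj]
  simp

theorem sumForm_nondegenerate (Q₁ : QuadraticForm F (κ₁ → F)) (Q₂ : QuadraticForm F (κ₂ → F))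
    (hn₁ : (QuadraticMap.polarBilin Q₁).Nondegenerate)
    (hn₂ : (QuadraticMap.polarBilin Q₂).Nondegenerate) :
    (QuadraticMap.polarBilin (sumForm Q₁ Q₂)).Nondegenerate := by
  constructor
  · intro x hx
    have hl : x ∘ Sum.inl = 0 := by
      apply hn₁.1
      intro y₁
      have h := hx (Sum.elim y₁ 0)
      rw [QuadraticMap.polarBilin_apply_apply, sumForm_polar] at h
      rw [QuadraticMap.polarBilin_apply_apply]
      have e1 : (Sum.elim y₁ (0 : κ₂ → F)) ∘ Sum.inl = y₁ := rfl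
      have e2 : (Sum.elim y₁ (0 : κ₂ → F)) ∘ Sum.inr = 0 := rfl
      rw [e1, e2, QuadraticMap.polar_zero_right, add_zero] at h
      exact h
    have hr : x ∘ Sum.inr = 0 := by
      apply hn₂.1
      intro y₂
      have h := hx (Sum.elim 0 y₂)
      rw [QuadraticMap.polarBilin_apply_apply, sumForm_polar] at h
      rw [QuadraticMap.polarBilin_apply_apply]
      have e1 : (Sum.elim (0 : κ₁ → F) y₂) ∘ Sum.inl = 0 := rfl
      have e2 : (Sum.elim (0 : κ₁ → F) y₂) ∘ Sum.inr = y₂ := rfl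
      rw [e1, e2, QuadraticMap.polar_zero_right, zero_add] at h
      exact h
    funext i
    rcases i with i | i
    · exact congrFun hl i
    · exact congrFun hr i
  · intro x hx
    have hl : x ∘ Sum.inl = 0 := by
      apply hn₁.2
      intro y₁
      have h := hx (Sum.elim y₁ 0)
      rw [QuadraticMap.polarBilin_apply_apply, sumForm_polar] at h
      rw [QuadraticMap.polarBilin_apply_apply]
      have e1 : (Sum.elim y₁ (0 : κ₂ → F)) ∘ Sum.inl = y₁ := rfl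
      have e2 : (Sum.elim y₁ (0 : κ₂ → F)) ∘ Sum.inr = 0 := rfl
      rw [e1, e2, QuadraticMap.polar_zero_left, add_zero] at h
      exact h
    have hr : x ∘ Sum.inr = 0 := by
      apply hn₂.2
      intro y₂
      have h := hx (Sum.elim 0 y₂)
      rw [QuadraticMap.polarBilin_apply_apply, sumForm_polar] at h
      rw [QuadraticMap.polarBilin_apply_apply]
      have e1 : (Sum.elim (0 : κ₁ → F) y₂) ∘ Sum.inl = 0 := rfl
      have e2 : (Sum.elim (0 : κ₁ → F) y₂) ∘ Sum.inr = y₂ := rfl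
      rw [e1, e2, QuadraticMap.polar_zero_left, zero_add] at h
      exact h
    funext i
    rcases i with i | i
    · exact congrFun hl i
    · exact congrFun hr i

end

theorem pkgSum : PkgSum.{u} := by
  intro F _ d₁ d₂ P₁ P₂ h₁ h₂
  obtain ⟨κ₁, hf₁, hd₁, Q₁, M₁, hc₁, hn₁, hi₁, hp₁⟩ := h₁
  obtain ⟨κ₂, hf₂, hd₂, Q₂, M₂, hc₂, hn₂, hi₂, hp₂⟩ := h₂
  refine ⟨κ₁ ⊕ κ₂, inferInstance, inferInstance, sumForm Q₁ Q₂,
    Matrix.fromBlocks M₁ 0 0 M₂, ?_, sumForm_nondegenerate Q₁ Q₂ hn₁ hn₂, ?_, ?_⟩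
  · rw [Fintype.card_sum, hc₁, hc₂]
  · intro v
    rw [sumForm_apply, sumForm_apply, fromBlocks_mulVec_inl, fromBlocks_mulVec_inr, hi₁, hi₂]
  · intro j
    rw [fromBlocks_diag_pow, fromBlocks_diag_eq_one, hp₁, hp₂]

end Cfsg.Agent.Lib.Helper52.PG
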