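import Mathlib
import Cfsg.Agent.Lib.Helper8.PG.Defs
import Cfsg.Agent.Lib.Helper14.Forms

set_option autoImplicit false

/-!
# PG (S2474), package (UNI): the space `x² + y z` with a unipotent isometry of order `p`
-/

universe u

namespace Cfsg.Agent.Lib.Helper52.PG

open Matrix Cfsg.Agent.Lib.Helper8.PG

/-- the unipotent isometry `(x, y, z) ↦ (x + a y, y, z - 2 a x - a² y)` of `x² + y z` -/
def uniMat {F : Type u} [Field F] (a : F) : Matrix (Fin 3) (Fin 3) F :=
  !![1, a, 0; 0, 1, 0; -(2 * a), -(a * a), 1]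

theorem uniMat_mul {F : Type u} [Field F] (a b : F) : uniMat a * uniMat b = uniMat (a + b) := by
  ext i j
  fin_cases i <;> fin_cases j <;>
    simp [uniMat, Matrix.mul_apply, Fin.sum_univ_three] <;> ring

theorem uniMat_zero {F : Type u} [Field F] : uniMat (0 : F) = 1 := by
  ext i j
  fin_cases i <;> fin_cases j <;> simp [uniMat]

theorem uniMat_pow {F : Type u} [Field F] (j : ℕ) : uniMat (1 : F) ^ j = uniMat (j : F) := by
  induction j with
  | zero => rw [pow_zero, Nat.cast_zero, uniMat_zero]
  | succ j ih => rw [pow_succ, ih, uniMat_mul, Nat.cast_succ]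

theorem uniMat_eq_one_iff {F : Type u} [Field F] (a : F) : uniMat a = 1 ↔ a = 0 := by
  constructor
  · intro h
    have := congrFun (congrFun h 0) 1
    simpa [uniMat] using this
  · rintro rfl
    exact uniMat_zero

theorem pkgUni : PkgUni.{u} := by
  intro F _ p _ _ h2
  refine ⟨Fin 3, inferInstance, inferInstance,
    QuadraticMap.proj (0 : Fin 3) (0 : Fin 3) + QuadraticMap.proj (1 : Fin 3) (2 : Fin 3),
    uniMat 1, by simp, ?_, ?_, ?_⟩
  · apply Cfsg.Agent.Lib.Helper14.nondegenerate_of_coords
    intro k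
    fin_cases k
    · refine ⟨Pi.single 0 1, 2, h2, fun x => ?_⟩
      simp [QuadraticMap.polar, QuadraticMap.proj_apply]
      ring
    · refine ⟨Pi.single 2 1, 1, one_ne_zero, fun x => ?_⟩
      simp [QuadraticMap.polar, QuadraticMap.proj_apply]
      ring
    · refine ⟨Pi.single 1 1, 1, one_ne_zero, fun x => ?_⟩
      simp [QuadraticMap.polar, QuadraticMap.proj_apply]
      ring
  · intro v
    simp [QuadraticMap.proj_apply, uniMat, dotProduct, Fin.sum_univ_three]
    ring
  · intro j
    rw [uniMat_pow, uniMat_eq_one_iff]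
    exact CharP.cast_eq_zero_iff F p j

end Cfsg.Agent.Lib.Helper52.PG
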